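import Mathlib.Algebra.Category.Grp.Colimits
import Mathlib.Algebra.Category.Grp.Limits
import Mathlib.Algebra.Category.Grp.EpiMono
import Mathlib.Algebra.BigOperators.Finprod
import Mathlib.CategoryTheory.Limits.Shapes.Products
import Mathlib.CategoryTheory.Preadditive.AdditiveFunctor

/-!
# Coproducts with finitely supported values

If every element of `H (∐ F)` is the sum of finitely many of its components, then the additive
functor `H` preserves the coproduct.
-/

set_option autoImplicit false
set_option linter.style.haveILetI false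

universe w v u t

open CategoryTheory CategoryTheory.Limits

namespace GrothLib.CoprodH20

variable {A : Type u} [Category.{v} A] [Preadditive A] {ι : Type t} (F : ι → A) [HasCoproduct F]

open Classical in
/-- the projection out of a coproduct -/
noncomputable def proj (i : ι) : ∐ F ⟶ F i :=
  Sigma.desc fun j => if h : j = i then eqToHom (congrArg F h) else 0

@[reassoc]
theorem ι_proj_self (i : ι) : Sigma.ι F i ≫ proj F i = 𝟙 _ := by
  simp [proj]

@[reassoc]
theorem ι_proj_ne {i j : ι} (h : j ≠ i) : Sigma.ι F j ≫ proj F i = 0 := by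
  simp [proj, h]

/-- The idempotent of a component. -/
noncomputable def comp (i : ι) : ∐ F ⟶ ∐ F := proj F i ≫ Sigma.ι F i

variable (H : A ⥤ AddCommGrpCat.{w}) [H.Additive]

theorem map_proj_eq_zero {t : Finset ι} (y : ∀ i, H.obj (F i)) {j : ι} (hj : j ∉ t) :
    H.map (proj F j) (∑ i ∈ t, H.map (Sigma.ι F i) (y i)) = 0 := by
  rw [map_sum]
  refine Finset.sum_eq_zero fun i hi => ?_
  rw [← ConcreteCategory.comp_apply, ← H.map_comp, ι_proj_ne F (fun h : i = j => hj (h ▸ hi)), H.map_zero]
  rfl

/-- If every element of `H (∐ F)` has finitely many components, `H` preserves the coproduct. -/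
theorem preservesColimit_of_fin
    (h : ∀ x : H.obj (∐ F), ∃ t : Finset ι, x = ∑ i ∈ t, H.map (comp F i) x) :
    PreservesColimit (Discrete.functor F) H := by
  have h' : ∀ x : H.obj (∐ F), ∃ t : Finset ι,
      x = ∑ i ∈ t, H.map (Sigma.ι F i) (H.map (proj F i) x) := fun x => by
    obtain ⟨t, ht⟩ := h x
    refine ⟨t, ht.trans (Finset.sum_congr rfl fun i _ => ?_)⟩
    rw [← ConcreteCategory.comp_apply, ← H.map_comp]
    rfl
  have supp : ∀ {P : AddCommGrpCat.{w}} (s : ∀ i, H.obj (F i) ⟶ P) (x : H.obj (∐ F)),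
      (Function.support fun i => s i (H.map (proj F i) x)).Finite := fun {P} s x => by
    obtain ⟨t, ht⟩ := h' x
    refine t.finite_toSet.subset fun i hi => ?_
    by_contra hit
    apply hi
    show s i (H.map (proj F i) x) = 0
    rw [ht, map_proj_eq_zero F H _ hit, map_zero]
  refine preservesColimit_of_preserves_colimit_cocone (coproductIsCoproduct F) ?_
  refine { desc := fun s => AddCommGrpCat.ofHom (AddMonoidHom.mk'
    (fun x => ∑ᶠ i, s.ι.app ⟨i⟩ (H.map (proj F i) x)) fun x y => ?_), fac := fun s => ?_, uniq := fun s m hm => ?_ }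
  · simp only [map_add]
    exact finsum_add_distrib (supp (fun i => s.ι.app ⟨i⟩) x) (supp (fun i => s.ι.app ⟨i⟩) y)
  · rintro ⟨j⟩
    ext y
    let σ : ∀ i, H.obj (F i) ⟶ s.pt := fun i => s.ι.app ⟨i⟩
    show (∑ᶠ i, σ i (H.map (proj F i) (H.map (Sigma.ι F j) y))) = σ j y
    rw [finsum_eq_single (fun i => σ i (H.map (proj F i) (H.map (Sigma.ι F j) y))) j fun i hi => ?_]
    · rw [← ConcreteCategory.comp_apply (H.map (Sigma.ι F j)), ← H.map_comp, ι_proj_self, H.map_id]
      rfl
    · rw [← ConcreteCategory.comp_apply (H.map (Sigma.ι F j)), ← H.map_comp, ι_proj_ne F (Ne.symm hi), H.map_zero]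
      exact map_zero _
  · ext x
    change m x = ∑ᶠ i, s.ι.app ⟨i⟩ (H.map (proj F i) x)
    obtain ⟨t, ht⟩ := h' x
    rw [finsum_eq_sum_of_support_subset _ (s := t) fun i hi => ?_]
    · conv_lhs => rw [ht]
      rw [map_sum]
      exact Finset.sum_congr rfl fun i _ => ConcreteCategory.congr_hom (hm ⟨i⟩) _
    · by_contra hit
      apply hi
      show s.ι.app ⟨i⟩ (H.map (proj F i) x) = 0
      rw [ht, map_proj_eq_zero F H _ hit, map_zero]

end GrothLib.CoprodH20
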